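import Cfsg.Agent.Lib.Chevalley.Cover.Rep

/-!
Tables for the cubic form in 27 variables: its monomials, the minuscule representation of E6 in matching
coordinates, and the elimination steps fixing one basis vector after another.
-/

set_option autoImplicit false
set_option maxHeartbeats 0
set_option maxRecDepth 20000

namespace Cfsg.Agent.E6Cubic.Data

/-- The monomials. -/
def mon : List (ℤ × Fin 27 × Fin 27 × Fin 27) := [
    (1, 0, 4, 8),
    (-1, 0, 5, 7),
    (-1, 1, 3, 8),
    (1, 1, 5, 6),
    (1, 2, 3, 7),
    (-1, 2, 4, 6),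
    (1, 9, 13, 17),
    (-1, 9, 14, 16),
    (-1, 10, 12, 17),
    (1, 10, 14, 15),
    (1, 11, 12, 16),
    (-1, 11, 13, 15),
    (1, 18, 22, 26),
    (-1, 18, 23, 25),
    (-1, 19, 21, 26),
    (1, 19, 23, 24),
    (1, 20, 21, 25),
    (-1, 20, 22, 24),
    (-1, 0, 9, 18),
    (-1, 0, 10, 21),
    (-1, 0, 11, 24),
    (-1, 1, 12, 18),
    (-1, 1, 13, 21),
    (-1, 1, 14, 24),
    (-1, 2, 15, 18),
    (-1, 2, 16, 21),
    (-1, 2, 17, 24),
    (-1, 3, 9, 19),
    (-1, 3, 10, 22),
    (-1, 3, 11, 25),
    (-1, 4, 12, 19),
    (-1, 4, 13, 22),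
    (-1, 4, 14, 25),
    (-1, 5, 15, 19),
    (-1, 5, 16, 22),
    (-1, 5, 17, 25),
    (-1, 6, 9, 20),
    (-1, 6, 10, 23),
    (-1, 6, 11, 26),
    (-1, 7, 12, 20),
    (-1, 7, 13, 23),
    (-1, 7, 14, 26),
    (-1, 8, 15, 20),
    (-1, 8, 16, 23),
    (-1, 8, 17, 26)]

/-- The packed root vectors. -/
def tab : Cfsg.Agent.Chevalley.Cover.Rep.RepTab := ⟨27, (.node 36 (.node 18 (.node 9 (.node 4 (.node 2 (.node 1 (.leaf 0x3200002c0000260000000000000000000000000000000000110f0d) (.leaf 0xb120000000026003100000000000000000000000000151c)) (.node 1 (.leaf 0xb120000000000000000252c00000000000000000000000000171e) (.leaf 0xb12002b320000000000000000000000000000131a))) (.node 2 (.node 1 (.leaf 0x3200002c000026000000000000000000000000000000000b0907) (.leaf 0x160000170000000000000010000011000000000000000026000027)) (.node 1 (.leaf 0x1300001600000f0000120000000000000000000031000034) (.node 1 (.leaf 0x91000000000000000260031000000000000000000160021) (.leaf 0x13000000000018000000100000110000000000000000002c00002d))))) (.node 4 (.node 2 (.node 1 (.leaf 0x9100000000000000000000000252c000000000000000000180023)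 (.leaf 0x910000000002b320000000000000000000014001f)) (.node 1 (.leaf 0x18161400000000000000001100000b000005) (.leaf 0x160000170000000000000a00000b00000000002500000000002a))) (.node 2 (.node 1 (.leaf 0x13000016000900000c0000000000000032000000000035) (.leaf 0x1300000000001800000a00000b0000000000002b000000000030)) (.node 1 (.leaf 0x18161400000000000f000009000003) (.node 1 (.leaf 0x1b00001e000000000000000e000000000011000000002500002800) (.leaf 0x1a00001b00000d0000000000120000000000003200003300)))))) (.node 9 (.node 4 (.node 2 (.node 1 (.leaf 0x70e000000000000000000002600310000000000001b2200) (.leaf 0x1a00000000001d0000000e00000000001100000000002b00002e00)) (.node 1 (.leaf 0x70e0000000000000000000000000000252c0000000000001d2400) (.leaf 0x70e000000000000002b3200000000000000192000))) (.node 2 (.node 1 (.leaf 0x3400002e0000280000000000000000000000000000110f0d000000) (.leaf 0x21000024000000000000000000000d000010000000250000280000)) (.node 1 (.leaf 0x2000002100000000000e00000f0000000000320000330000) (.node 1 (.leaf 0x200000000000230000000000000d000010000000002b00002e0000)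 (.leaf 0x1d1b19000000000000001200000c00000600))))) (.node 4 (.node 2 (.node 1 (.leaf 0x1b00001e0000000000000800000000000b002600000000002900) (.leaf 0x1a00001b000700000000000c0000003100000000003600)) (.node 1 (.leaf 0x1a00000000001d00000800000000000b00002c00000000002f00) (.leaf 0x5001200000027003400000000000000000000161b000000))) (.node 2 (.node 1 (.leaf 0x2a282600000000002100001b000015000000000000000000) (.leaf 0x3533310000002200001c0000160000000000000000000000)) (.node 1 (.leaf 0x6001100000000000000272e00000000000000000000171e000000) (.node 1 (.leaf 0x29272500000000000000002400001e000018000000000000000000) (.leaf 0x500122e3300000000000000000000001419000000))))))) (.node 18 (.node 9 (.node 4 (.node 2 (.node 1 (.leaf 0x210000240000000000000000000700000a260000000000290000) (.leaf 0x3533312000001a0000140000000000000000000000)) (.node 1 (.leaf 0x2000002100000000080000090000310000000000360000) (.leaf 0x2f2d2b000000000000002400001e00001800000000000000000000))) (.node 2 (.node 1 (.leaf 0x302e2c001f00001900001300000000000000000000) (.leaf 0x2000000000002300000000000700000a002c00000000002f0000))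 (.node 1 (.leaf 0x30010000000000000270034000000000000150022000000) (.node 1 (.leaf 0x4000f00000000000000000000272e000000000000180023000000) (.leaf 0x300100000002e3300000000000000130020000000))))) (.node 4 (.node 2 (.node 1 (.leaf 0x23211f0000001000000a0000040000) (.leaf 0x60b00000029003600000000000000161b000000000000)) (.node 1 (.leaf 0x50c00000000000000293000000000000000171e000000000000) (.leaf 0x60b303500000000000000001419000000000000))) (.node 2 (.node 1 (.leaf 0x3600003000002a000000000000000000000b0907000000000000) (.leaf 0x16000017000000000004000005000000000028000029000000)) (.node 1 (.leaf 0x14000015040000050000000000000034000035000000) (.node 1 (.leaf 0x409000000000000290036000000150022000000000000) (.leaf 0x1300000000001800040000050000000000002e00002f000000)))))) (.node 9 (.node 4 (.node 2 (.node 1 (.leaf 0x30a000000000000000000002930000000180023000000000000) (.leaf 0x409000000303500000000130020000000000000)) (.node 1 (.leaf 0x1e1c1a000d00000700000100) (.leaf 0x2000d0000000000000000002800330000001b2200000000))) (.node 2 (.node 1 (.leaf 0x1000e00000000000000000000000000282d0000001e2300000000)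 (.leaf 0x2000d0000000000002d3400000000192000000000)) (.node 1 (.leaf 0x2422200d0000070000010000) (.node 1 (.leaf 0x1c00001d000000000001000000000006002800002900000000) (.leaf 0x1a00001b010000000000060000003400003500000000))))) (.node 4 (.node 2 (.node 1 (.leaf 0x1080000000000000000002a00351b2200000000000000) (.leaf 0x1900000000001e000100000000000600002e00002f00000000)) (.node 1 (.leaf 0x207000000000000000000000000002a2f1e2300000000000000) (.leaf 0x1080000000000002f3600192000000000000000))) (.node 2 (.node 1 (.leaf 0x3400002e000028000000000000000000000000050301000000) (.leaf 0x22000023000000000000000002000003280000290000000000)) (.node 1 (.leaf 0x20000021000000020000030000340000350000000000) (.node 1 (.leaf 0x1f0000000000240000000002000003002e00002f0000000000) (.leaf 0x3600003000002a000000000000000000050301000000000000))))))))⟩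

/-- How a coordinate is seen to vanish. -/
inductive ZCert where
  | apart : Fin 27 → Fin 27 → ZCert
  | pair : Fin 27 → Fin 27 → ZCert

/-- How the pivot is found. -/
inductive Piv where
  | any : List (Fin 27 × List (ℕ × Fin 27)) → Piv
  | value : Fin 27 → Fin 27 → Piv
  | near : Fin 27 → Fin 27 → List (Fin 27 × List (ℕ × Fin 27)) → Piv

/-- One elimination step. -/
structure Step where
  k : Fin 27
  piv : Piv
  scale : Option (ℕ × ℕ × Fin 27)
  zeros : List (Fin 27 × ZCert)
  kills : List (Fin 27 × ℕ)
  forced : List (Fin 27 × Fin 27)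

/-- The steps. -/
def steps : List Step := [
  { k := 0,
    piv := .any [(0, []),
      (1, [(56, 0)]),
      (2, [(60, 0)]),
      (3, [(67, 0)]),
      (4, [(67, 1), (56, 0)]),
      (5, [(70, 23), (57, 0)]),
      (6, [(71, 0)]),
      (7, [(71, 1), (56, 0)]),
      (8, [(71, 2), (60, 0)]),
      (9, [(68, 1), (56, 0)]),
      (10, [(70, 1), (56, 0)]),
      (11, [(69, 1), (56, 0)]),
      (12, [(68, 0)]),
      (13, [(70, 0)]),
      (14, [(69, 0)]),
      (15, [(61, 0)]),
      (16, [(64, 0)]),
      (17, [(62, 0)]),
      (18, [(71, 20), (59, 0)]),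
      (19, [(66, 0)]),
      (20, [(59, 0)]),
      (21, [(71, 23), (57, 0)]),
      (22, [(63, 0)]),
      (23, [(57, 0)]),
      (24, [(71, 26), (58, 0)]),
      (25, [(65, 0)]),
      (26, [(58, 0)])],
    scale := some (0, 71, 6),
    zeros := [],
    kills := [(1, 15), (2, 11), (3, 4), (6, 0), (12, 3), (13, 1), (14, 2), (15, 10), (16, 7), (17, 9), (19, 5), (20, 12), (22, 8), (23, 14), (25, 6), (26, 13)],
    forced := [(4, 8), (5, 7), (7, 5), (8, 4), (9, 18), (10, 21), (11, 24), (18, 9), (21, 10), (24, 11)] },
  { k := 4,
    piv := .near 0 8 [(4, []),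
      (5, [(45, 4)]),
      (7, [(49, 4)]),
      (8, [(55, 9), (36, 4)]),
      (9, [(36, 4)]),
      (10, [(41, 4)]),
      (11, [(38, 4)]),
      (18, [(55, 4)]),
      (21, [(52, 4)]),
      (24, [(54, 4)])],
    scale := some (16, 55, 18),
    zeros := [],
    kills := [(1, 67), (3, 56), (5, 26), (7, 22), (9, 35), (10, 30), (11, 33), (15, 59), (16, 57), (17, 58), (18, 16), (20, 61), (21, 19), (23, 64), (24, 17), (26, 62)],
    forced := [(0, 8), (2, 6), (6, 2), (8, 0), (12, 19), (13, 22), (14, 25), (19, 12), (22, 13), (25, 14)] },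
  { k := 8,
    piv := .value 0 4,
    scale := none,
    zeros := [],
    kills := [(2, 71), (5, 49), (6, 60), (7, 45), (9, 55), (10, 52), (11, 54), (12, 66), (13, 63), (14, 65), (18, 36), (19, 68), (21, 41), (22, 70), (24, 38), (25, 69)],
    forced := [(0, 4), (1, 3), (3, 1), (4, 0), (15, 20), (16, 23), (17, 26), (20, 15), (23, 16), (26, 17)] },
  { k := 1,
    piv := .near 8 3 [(1, []),
      (3, [(53, 23), (42, 1)]),
      (15, [(50, 1)]),
      (16, [(53, 1)]),
      (17, [(51, 1)]),
      (20, [(44, 1)]),
      (23, [(42, 1)]),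
      (26, [(43, 1)])],
    scale := some (18, 53, 16),
    zeros := [(0, .apart 4 8), (2, .apart 4 6), (4, .apart 0 8), (5, .apart 0 7), (6, .apart 4 2), (7, .apart 0 5), (8, .apart 4 0), (9, .apart 0 18), (10, .apart 0 21), (11, .apart 0 24), (12, .apart 4 19), (13, .apart 4 22), (14, .apart 4 25), (18, .apart 0 9), (19, .apart 4 12), (21, .apart 0 10), (22, .apart 4 13), (24, .apart 0 11), (25, .apart 4 14)],
    kills := [(15, 21), (16, 18), (17, 20), (20, 27), (23, 29), (26, 28)],
    forced := [(3, 8)] },
  { k := 3,
    piv := .value 8 1,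
    scale := none,
    zeros := [(0, .apart 4 8), (2, .apart 4 6), (4, .apart 0 8), (5, .apart 0 7), (6, .apart 4 2), (7, .apart 0 5), (8, .apart 4 0), (9, .apart 0 18), (10, .apart 0 21), (11, .apart 0 24), (12, .apart 4 19), (13, .apart 4 22), (14, .apart 4 25), (18, .apart 0 9), (19, .apart 4 12), (21, .apart 0 10), (22, .apart 4 13), (24, .apart 0 11), (25, .apart 4 14)],
    kills := [(15, 44), (16, 42), (17, 43), (20, 50), (23, 53), (26, 51)],
    forced := [(1, 8)] },
  { k := 15,
    piv := .near 8 20 [(15, []),
      (16, [(40, 15)]),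
      (17, [(37, 15)]),
      (20, [(40, 23), (24, 15)]),
      (23, [(24, 15)]),
      (26, [(25, 15)])],
    scale := some (31, 40, 16),
    zeros := [(0, .apart 4 8), (1, .apart 3 8), (2, .apart 3 7), (3, .apart 1 8), (4, .apart 0 8), (5, .apart 1 6), (6, .apart 1 5), (7, .apart 3 2), (8, .apart 3 1), (9, .apart 3 19), (10, .apart 3 22), (11, .apart 3 25), (12, .apart 1 18), (13, .apart 1 21), (14, .apart 1 24), (18, .apart 1 12), (19, .apart 3 9), (21, .apart 1 13), (22, .apart 3 10), (24, .apart 1 14), (25, .apart 3 11)],
    kills := [(16, 31), (17, 34), (23, 47), (26, 46)],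
    forced := [(20, 8)] },
  { k := 6,
    piv := .near 4 2 [(6, []),
      (12, [(23, 6)])],
    scale := some (48, 23, 12),
    zeros := [(0, .apart 8 4), (1, .apart 3 8), (2, .apart 15 18), (3, .apart 8 1), (4, .apart 8 0), (5, .apart 15 19), (7, .apart 3 2), (8, .apart 15 20), (9, .apart 3 19), (10, .apart 15 14), (11, .apart 15 13), (13, .apart 15 11), (14, .apart 15 10), (15, .apart 8 20), (16, .apart 8 23), (17, .apart 8 26), (18, .apart 15 2), (19, .apart 15 5), (20, .apart 15 8), (21, .apart 0 10), (22, .apart 3 10), (23, .apart 8 16), (24, .apart 0 11), (25, .apart 3 11), (26, .apart 8 17)],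
    kills := [(12, 48)],
    forced := [] },
  { k := 2,
    piv := .value 4 6,
    scale := none,
    zeros := [(0, .apart 8 4), (1, .apart 8 3), (3, .apart 1 8), (4, .apart 8 0), (5, .apart 1 6), (6, .apart 1 5), (7, .apart 0 5), (8, .apart 1 3), (9, .apart 0 18), (10, .apart 0 21), (11, .apart 0 24), (12, .apart 1 18), (13, .apart 1 21), (14, .apart 1 24), (15, .apart 8 20), (16, .apart 8 23), (17, .apart 8 26), (18, .apart 1 12), (20, .apart 8 15), (21, .apart 1 13), (23, .apart 8 16), (24, .apart 1 14), (26, .apart 8 17)],
    kills := [(19, 23), (22, 25), (25, 24)],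
    forced := [] },
  { k := 5,
    piv := .value 1 6,
    scale := none,
    zeros := [(0, .apart 8 4), (1, .apart 3 8), (2, .apart 3 7), (3, .apart 2 7), (4, .apart 2 6), (6, .apart 2 4), (7, .apart 2 3), (8, .apart 3 1), (9, .apart 3 19), (10, .apart 3 22), (11, .apart 3 25), (12, .apart 4 19), (13, .apart 4 22), (14, .apart 4 25), (15, .apart 2 18), (16, .apart 2 21), (17, .apart 2 24), (18, .apart 2 15), (19, .apart 3 9), (20, .apart 8 15), (21, .apart 2 16), (22, .apart 3 10), (23, .apart 8 16), (24, .apart 2 17), (25, .apart 3 11), (26, .apart 8 17)],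
    kills := [],
    forced := [] },
  { k := 7,
    piv := .value 3 2,
    scale := none,
    zeros := [(0, .apart 8 4), (1, .apart 6 5), (2, .apart 6 4), (3, .apart 1 8), (4, .apart 6 2), (5, .apart 6 1), (6, .apart 1 5), (8, .apart 15 20), (9, .apart 6 20), (10, .apart 6 23), (11, .apart 6 26), (12, .apart 1 18), (13, .apart 15 11), (14, .apart 15 10), (15, .apart 8 20), (16, .apart 8 23), (17, .apart 8 26), (18, .apart 15 2), (19, .apart 15 5), (20, .apart 6 9), (21, .apart 1 13), (22, .apart 4 13), (23, .apart 6 10), (24, .apart 1 14), (25, .apart 4 14), (26, .apart 6 11)],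
    kills := [],
    forced := [] },
  { k := 18,
    piv := .value 15 2,
    scale := none,
    zeros := [(0, .apart 7 5), (1, .apart 5 6), (2, .apart 7 3), (3, .apart 7 2), (4, .apart 6 2), (5, .apart 7 0), (6, .apart 5 1), (7, .apart 5 0), (8, .apart 3 1), (9, .apart 6 20), (10, .apart 6 23), (11, .apart 6 26), (12, .apart 7 20), (13, .apart 7 23), (14, .apart 7 26), (15, .apart 5 19), (16, .apart 5 22), (17, .apart 5 25), (19, .apart 5 15), (20, .apart 7 12), (22, .apart 5 16), (23, .apart 7 13), (25, .apart 5 17), (26, .apart 7 14)],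
    kills := [(21, 40), (24, 37)],
    forced := [] },
  { k := 9,
    piv := .value 0 18,
    scale := none,
    zeros := [(0, .apart 7 5), (1, .apart 5 6), (2, .apart 7 3), (3, .apart 7 2), (4, .apart 2 6), (5, .apart 7 0), (6, .apart 5 1), (7, .apart 5 0), (8, .apart 15 20), (10, .apart 15 14), (11, .apart 15 13), (12, .apart 7 20), (13, .apart 7 23), (14, .apart 7 26), (15, .apart 5 19), (16, .apart 5 22), (17, .apart 5 25), (18, .apart 2 15), (19, .apart 5 15), (20, .apart 7 12), (21, .apart 2 16), (22, .apart 5 16), (23, .apart 7 13), (24, .apart 2 17), (25, .apart 5 17), (26, .apart 7 14)],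
    kills := [],
    forced := [] },
  { k := 12,
    piv := .value 1 18,
    scale := none,
    zeros := [(0, .apart 9 18), (1, .apart 5 6), (2, .apart 6 4), (3, .apart 9 19), (4, .apart 2 6), (5, .apart 6 1), (6, .apart 9 20), (7, .apart 5 0), (8, .apart 15 20), (9, .apart 6 20), (10, .apart 6 23), (11, .apart 6 26), (13, .apart 9 17), (14, .apart 9 16), (15, .apart 5 19), (16, .apart 9 14), (17, .apart 9 13), (18, .apart 9 0), (19, .apart 9 3), (20, .apart 9 6), (21, .apart 2 16), (22, .apart 5 16), (23, .apart 6 10), (24, .apart 2 17), (25, .apart 5 17), (26, .apart 6 11)],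
    kills := [],
    forced := [] },
  { k := 19,
    piv := .value 15 5,
    scale := none,
    zeros := [(0, .apart 18 9), (1, .apart 18 12), (2, .apart 18 15), (3, .apart 7 2), (4, .apart 2 6), (5, .apart 7 0), (6, .apart 2 4), (7, .apart 2 3), (8, .apart 1 3), (9, .apart 18 0), (10, .apart 6 23), (11, .apart 6 26), (12, .apart 18 1), (13, .apart 7 23), (14, .apart 7 26), (15, .apart 18 2), (16, .apart 2 21), (17, .apart 2 24), (18, .apart 2 15), (20, .apart 7 12), (21, .apart 2 16), (22, .apart 18 26), (23, .apart 18 25), (24, .apart 2 17), (25, .apart 18 23), (26, .apart 18 22)],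
    kills := [],
    forced := [] },
  { k := 20,
    piv := .value 7 12,
    scale := none,
    zeros := [(0, .apart 18 9), (1, .apart 18 12), (2, .apart 18 15), (3, .apart 19 9), (4, .apart 19 12), (5, .apart 19 15), (6, .apart 5 1), (7, .apart 5 0), (8, .apart 3 1), (9, .apart 19 3), (10, .apart 3 22), (11, .apart 3 25), (12, .apart 19 4), (13, .apart 1 21), (14, .apart 1 24), (15, .apart 19 5), (16, .apart 5 22), (17, .apart 5 25), (18, .apart 2 15), (19, .apart 5 15), (21, .apart 19 26), (22, .apart 18 26), (23, .apart 19 24), (24, .apart 19 23), (25, .apart 18 23), (26, .apart 19 21)],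
    kills := [],
    forced := [] },
  { k := 10,
    piv := .near 0 21 [(10, []),
      (11, [(32, 10)])],
    scale := some (39, 32, 11),
    zeros := [(0, .apart 9 18), (1, .apart 18 12), (2, .apart 18 15), (3, .apart 19 9), (4, .apart 19 12), (5, .apart 19 15), (6, .apart 20 9), (7, .apart 20 12), (8, .apart 20 15), (9, .apart 20 6), (12, .apart 20 7), (13, .apart 9 17), (14, .apart 9 16), (15, .apart 20 8), (16, .apart 9 14), (17, .apart 9 13), (18, .apart 9 0), (19, .apart 9 3), (20, .apart 9 6), (21, .apart 20 25), (22, .apart 20 24), (23, .apart 19 24), (24, .apart 20 22), (25, .apart 20 21), (26, .apart 19 21)],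
    kills := [(11, 39)],
    forced := [] },
  { k := 14,
    piv := .value 15 10,
    scale := none,
    zeros := [(0, .apart 18 9), (1, .apart 12 18), (2, .apart 18 15), (3, .apart 19 9), (4, .apart 19 12), (5, .apart 19 15), (6, .apart 20 9), (7, .apart 20 12), (8, .apart 20 15), (9, .apart 20 6), (10, .apart 12 17), (11, .apart 12 16), (12, .apart 20 7), (15, .apart 20 8), (16, .apart 12 11), (17, .apart 12 10), (18, .apart 12 1), (19, .apart 12 4), (20, .apart 12 7), (21, .apart 20 25), (22, .apart 20 24), (23, .apart 19 24), (24, .apart 20 22), (25, .apart 20 21), (26, .apart 19 21)],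
    kills := [(13, 32)],
    forced := [] },
  { k := 16,
    piv := .value 9 14,
    scale := none,
    zeros := [(0, .apart 10 21), (1, .apart 18 12), (2, .apart 18 15), (3, .apart 10 22), (4, .apart 19 12), (5, .apart 19 15), (6, .apart 10 23), (7, .apart 20 12), (8, .apart 20 15), (9, .apart 20 6), (10, .apart 6 23), (11, .apart 6 26), (12, .apart 10 17), (13, .apart 7 23), (14, .apart 10 15), (15, .apart 10 14), (17, .apart 10 12), (18, .apart 15 2), (19, .apart 15 5), (20, .apart 7 12), (21, .apart 10 0), (22, .apart 10 3), (23, .apart 10 6), (24, .apart 20 22), (25, .apart 20 21), (26, .apart 19 21)],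
    kills := [],
    forced := [] },
  { k := 11,
    piv := .value 12 16,
    scale := none,
    zeros := [(0, .apart 10 21), (1, .apart 14 24), (2, .apart 18 15), (3, .apart 10 22), (4, .apart 14 25), (5, .apart 19 15), (6, .apart 10 23), (7, .apart 14 26), (8, .apart 20 15), (9, .apart 14 16), (10, .apart 14 15), (12, .apart 10 17), (13, .apart 9 17), (14, .apart 10 15), (15, .apart 14 10), (16, .apart 14 9), (17, .apart 10 12), (18, .apart 9 0), (19, .apart 9 3), (20, .apart 9 6), (21, .apart 10 0), (22, .apart 10 3), (23, .apart 10 6), (24, .apart 14 1), (25, .apart 14 4), (26, .apart 14 7)],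
    kills := [],
    forced := [] },
  { k := 13,
    piv := .value 15 11,
    scale := none,
    zeros := [(0, .apart 10 21), (1, .apart 14 24), (2, .apart 16 21), (3, .apart 10 22), (4, .apart 14 25), (5, .apart 16 22), (6, .apart 10 23), (7, .apart 14 26), (8, .apart 16 23), (9, .apart 16 14), (10, .apart 14 15), (11, .apart 16 12), (12, .apart 16 11), (14, .apart 16 9), (15, .apart 14 10), (16, .apart 14 9), (17, .apart 10 12), (18, .apart 12 1), (19, .apart 12 4), (20, .apart 12 7), (21, .apart 16 2), (22, .apart 16 5), (23, .apart 16 8), (24, .apart 14 1), (25, .apart 14 4), (26, .apart 14 7)],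
    kills := [],
    forced := [] },
  { k := 17,
    piv := .value 12 10,
    scale := none,
    zeros := [(0, .apart 11 24), (1, .apart 14 24), (2, .apart 16 21), (3, .apart 11 25), (4, .apart 14 25), (5, .apart 16 22), (6, .apart 11 26), (7, .apart 14 26), (8, .apart 16 23), (9, .apart 16 14), (10, .apart 14 15), (11, .apart 16 12), (12, .apart 11 16), (13, .apart 11 15), (14, .apart 16 9), (15, .apart 11 13), (16, .apart 11 12), (18, .apart 15 2), (19, .apart 15 5), (20, .apart 7 12), (21, .apart 16 2), (22, .apart 16 5), (23, .apart 16 8), (24, .apart 11 0), (25, .apart 11 3), (26, .apart 11 6)],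
    kills := [],
    forced := [] },
  { k := 21,
    piv := .value 2 16,
    scale := none,
    zeros := [(0, .apart 11 24), (1, .apart 14 24), (2, .apart 17 24), (3, .apart 11 25), (4, .apart 14 25), (5, .apart 17 25), (6, .apart 11 26), (7, .apart 14 26), (8, .apart 17 26), (9, .apart 17 13), (10, .apart 17 12), (11, .apart 12 16), (12, .apart 17 10), (13, .apart 17 9), (14, .apart 9 16), (15, .apart 11 13), (16, .apart 11 12), (17, .apart 12 10), (18, .apart 12 1), (19, .apart 12 4), (20, .apart 12 7), (22, .apart 18 26), (23, .apart 18 25), (24, .apart 17 2), (25, .apart 17 5), (26, .apart 17 8)],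
    kills := [],
    forced := [] },
  { k := 22,
    piv := .value 5 16,
    scale := none,
    zeros := [(0, .apart 21 10), (1, .apart 21 13), (2, .apart 21 16), (3, .apart 11 25), (4, .apart 14 25), (5, .apart 17 25), (6, .apart 11 26), (7, .apart 14 26), (8, .apart 17 26), (9, .apart 17 13), (10, .apart 21 0), (11, .apart 12 16), (12, .apart 17 10), (13, .apart 21 1), (14, .apart 9 16), (15, .apart 11 13), (16, .apart 21 2), (17, .apart 12 10), (18, .apart 12 1), (19, .apart 21 26), (20, .apart 21 25), (21, .apart 19 26), (23, .apart 19 24), (24, .apart 17 2), (25, .apart 21 20), (26, .apart 21 19)],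
    kills := [],
    forced := [] },
  { k := 23,
    piv := .value 7 13,
    scale := none,
    zeros := [(0, .apart 21 10), (1, .apart 21 13), (2, .apart 21 16), (3, .apart 22 10), (4, .apart 22 13), (5, .apart 22 16), (6, .apart 11 26), (7, .apart 14 26), (8, .apart 17 26), (9, .apart 17 13), (10, .apart 22 3), (11, .apart 12 16), (12, .apart 17 10), (13, .apart 22 4), (14, .apart 9 16), (15, .apart 11 13), (16, .apart 22 5), (17, .apart 12 10), (18, .apart 22 26), (19, .apart 21 26), (20, .apart 22 24), (21, .apart 20 25), (22, .apart 20 24), (24, .apart 22 20), (25, .apart 21 20), (26, .apart 22 18)],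
    kills := [],
    forced := [] },
  { k := 24,
    piv := .value 20 22,
    scale := none,
    zeros := [(0, .apart 21 10), (1, .apart 21 13), (2, .apart 21 16), (3, .apart 10 22), (4, .apart 13 22), (5, .apart 16 22), (6, .apart 10 23), (7, .apart 13 23), (8, .apart 16 23), (9, .apart 13 17), (10, .apart 21 0), (11, .apart 13 15), (12, .apart 16 11), (13, .apart 21 1), (14, .apart 16 9), (15, .apart 13 11), (16, .apart 21 2), (17, .apart 13 9), (18, .apart 12 1), (19, .apart 21 26), (20, .apart 21 25), (21, .apart 13 1), (22, .apart 13 4), (23, .apart 13 7), (25, .apart 21 20), (26, .apart 21 19)],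
    kills := [],
    forced := [] },
  { k := 25,
    piv := .value 20 21,
    scale := none,
    zeros := [(0, .apart 24 11), (1, .apart 24 14), (2, .apart 24 17), (3, .apart 22 10), (4, .apart 22 13), (5, .apart 22 16), (6, .apart 10 23), (7, .apart 13 23), (8, .apart 16 23), (9, .apart 13 17), (10, .apart 22 3), (11, .apart 24 0), (12, .apart 16 11), (13, .apart 22 4), (14, .apart 24 1), (15, .apart 13 11), (16, .apart 22 5), (17, .apart 24 2), (18, .apart 22 26), (19, .apart 24 23), (20, .apart 24 22), (21, .apart 13 1), (22, .apart 24 20), (23, .apart 24 19), (24, .apart 22 20), (26, .apart 22 18)],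
    kills := [],
    forced := [] },
  { k := 26,
    piv := .value 19 21,
    scale := none,
    zeros := [(0, .apart 24 11), (1, .apart 24 14), (2, .apart 24 17), (3, .apart 25 11), (4, .apart 25 14), (5, .apart 25 17), (6, .apart 23 10), (7, .apart 23 13), (8, .apart 23 16), (9, .apart 13 17), (10, .apart 23 6), (11, .apart 25 3), (12, .apart 16 11), (13, .apart 23 7), (14, .apart 25 4), (15, .apart 13 11), (16, .apart 23 8), (17, .apart 25 5), (18, .apart 25 23), (19, .apart 24 23), (20, .apart 25 21), (21, .apart 25 20), (22, .apart 24 20), (23, .apart 25 18), (24, .apart 23 19), (25, .apart 23 18)],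
    kills := [],
    forced := [] }]

end Cfsg.Agent.E6Cubic.Data
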