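import Cfsg.Prelude.Def_E6
import Cfsg.Agent.Lib.E6Cubic.Data

/-!
The cubic form given by a list of monomials, its two polar forms, and their invariance under its isometries.
-/

set_option autoImplicit false

open scoped Matrix

namespace Cfsg.Agent.E6Cubic

/-- A monomial with its coefficient. -/
abbrev Mon := ℤ × Fin 27 × Fin 27 × Fin 27

variable {F : Type*} [Field F]

/-- One monomial evaluated. -/
def tval (m : Mon) (v : Fin 27 → F) : F := (m.1 : F) * v m.2.1 * v m.2.2.1 * v m.2.2.2

/-- The form of a list. -/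
def cub (l : List Mon) (v : Fin 27 → F) : F := (l.map fun m => tval m v).sum

/-- Quadratic in the first argument, linear in the second. -/
def quad (l : List Mon) (v w : Fin 27 → F) : F :=
  (l.map fun m => (m.1 : F) * (v m.2.1 * v m.2.2.1 * w m.2.2.2 + v m.2.1 * w m.2.2.1 * v m.2.2.2 +
    w m.2.1 * v m.2.2.1 * v m.2.2.2)).sum

/-- The trilinear form. -/
def tri (l : List Mon) (u v w : Fin 27 → F) : F :=
  (l.map fun m =>
    (m.1 : F) * (u m.2.1 * v m.2.2.1 * w m.2.2.2) + (m.1 : F) * (u m.2.1 * v m.2.2.2 * w m.2.2.1) +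
    (m.1 : F) * (u m.2.2.1 * v m.2.1 * w m.2.2.2) + (m.1 : F) * (u m.2.2.1 * v m.2.2.2 * w m.2.1) +
    (m.1 : F) * (u m.2.2.2 * v m.2.1 * w m.2.2.1) + (m.1 : F) * (u m.2.2.2 * v m.2.2.1 * w m.2.1)).sum

theorem cub_add (l : List Mon) (v w : Fin 27 → F) (s : F) :
    cub l (v + s • w) = cub l v + s * quad l v w + s ^ 2 * quad l w v + s ^ 3 * cub l w := by
  induction l with
  | nil => simp [cub, quad]
  | cons m l ih =>
    simp only [cub, quad, List.map_cons, List.sum_cons] at ih ⊢
    rw [ih]
    simp only [tval, Pi.add_apply, Pi.smul_apply, smul_eq_mul]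
    ring

theorem quad_add (l : List Mon) (u v w : Fin 27 → F) :
    quad l (u + v) w = quad l u w + quad l v w + tri l u v w := by
  induction l with
  | nil => simp [tri, quad]
  | cons m l ih =>
    simp only [tri, quad, List.map_cons, List.sum_cons] at ih ⊢
    rw [ih]
    simp only [Pi.add_apply]
    ring

theorem tri_swap (l : List Mon) (u v w : Fin 27 → F) : tri l u v w = tri l u w v := by
  unfold tri
  refine congrArg List.sum (List.map_congr_left fun m _ => ?_)
  ring

/-- The cubic form in 27 coordinates. -/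
def T27 (v : Fin 27 → F) : F := cub Data.mon v

variable (F) in
/-- Its isometry group. -/
def Gf : Subgroup (GL (Fin 27) F) := Cfsg.Lie.funStab F T27

/-- The action on vectors. -/
def act (g : GL (Fin 27) F) (v : Fin 27 → F) : Fin 27 → F := (g : Matrix (Fin 27) (Fin 27) F) *ᵥ v

theorem mem_Gf {g : GL (Fin 27) F} : g ∈ Gf F ↔ ∀ v, T27 (act g v) = T27 v := Iff.rfl

theorem act_mul (g h : GL (Fin 27) F) (v : Fin 27 → F) : act (g * h) v = act g (act h v) := by
  simp [act, Matrix.mulVec_mulVec]

@[simp] theorem act_one (v : Fin 27 → F) : act 1 v = v := by simp [act]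

theorem act_inv (g : GL (Fin 27) F) (v : Fin 27 → F) : act g (act g⁻¹ v) = v := by
  rw [← act_mul, mul_inv_cancel, act_one]

variable (hF : ∃ a : F, a ≠ 0 ∧ a ≠ 1) {g : GL (Fin 27) F} (hg : g ∈ Gf F)
include hF hg

theorem quad_inv (v w : Fin 27 → F) :
    quad Data.mon (act g v) (act g w) = quad Data.mon v w := by
  obtain ⟨a, ha0, ha1⟩ := hF
  have hlin : ∀ (s : F) v w, act g (v + s • w) = act g v + s • act g w := fun s v w => by
    simp [act, Matrix.mulVec_add, Matrix.mulVec_smul]
  have key : ∀ s : F,
      s * quad Data.mon (act g v) (act g w) + s ^ 2 * quad Data.mon (act g w) (act g v) =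
        s * quad Data.mon v w + s ^ 2 * quad Data.mon w v := fun s => by
    have h := mem_Gf.1 hg (v + s • w)
    rw [hlin] at h
    simp only [T27, cub_add] at h
    have hv : cub Data.mon (act g v) = cub Data.mon v := mem_Gf.1 hg v
    have hw : cub Data.mon (act g w) = cub Data.mon w := mem_Gf.1 hg w
    rw [hv, hw] at h
    linear_combination h
  have h1 := key 1
  have h2 := key a
  have hne : a ^ 2 - a ≠ 0 := by
    have : a * (a - 1) ≠ 0 := mul_ne_zero ha0 (sub_ne_zero.2 ha1)
    intro h
    exact this (by rw [← h]; ring)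
  refine mul_left_cancel₀ hne ?_
  linear_combination a ^ 2 * h1 - h2

theorem tri_inv (u v w : Fin 27 → F) :
    tri Data.mon (act g u) (act g v) (act g w) = tri Data.mon u v w := by
  have h := quad_add Data.mon (act g u) (act g v) (act g w)
  rw [← show act g (u + v) = act g u + act g v by simp [act, Matrix.mulVec_add],
    quad_inv hF hg, quad_inv hF hg, quad_inv hF hg, quad_add] at h
  exact (add_left_cancel h).symm

end Cfsg.Agent.E6Cubic
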