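import Cfsg.Agent.Lib.Chevalley.Data.E6
import Cfsg.Agent.Lib.E6Cubic.Form

/-!
The checks on the tables: the relations of the representation, invariance of the form, and the elimination steps.
-/

set_option autoImplicit false
set_option maxHeartbeats 0

namespace Cfsg.Agent.E6Cubic

open Cfsg.Agent.Chevalley.Cover

/-- The image of a basis vector under a root vector. -/
noncomputable def colR (r : ℕ) (j : Fin 27) : ℕ × ℤ := Rep.col Data.tab r j.val

/-- The nonzero entries of one row of a root vector. -/
noncomputable def src (r : ℕ) (b : Fin 27) : List (ℤ × Fin 27) :=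
  (List.finRange 27).filterMap fun j =>
    if (colR r j).1 = b.val ∧ (colR r j).2 ≠ 0 then some ((colR r j).2, j) else none

/-- A sign. -/
def sgnOK (s : ℤ) : Bool := decide (s = 1 ∨ s = -1)

/-- Exactly one entry, a sign at the given place. -/
def one (l : List (ℤ × Fin 27)) (j : Fin 27) : Bool :=
  match l with
  | [p] => sgnOK p.1 && decide (p.2 = j)
  | _ => false

/-- The expansion of the first polar along a root vector. -/
noncomputable def expand (r : ℕ) (l : List Mon) : List Mon :=
  l.flatMap fun m =>
    (src r m.2.2.2).map (fun p => (m.1 * p.1, m.2.1, m.2.2.1, p.2)) ++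
    ((src r m.2.2.1).map (fun p => (m.1 * p.1, m.2.1, p.2, m.2.2.2)) ++
    (src r m.2.1).map (fun p => (m.1 * p.1, p.2, m.2.2.1, m.2.2.2)))

/-- Opposite coefficients and the same three coordinates. -/
def opp (m n : Mon) : Bool :=
  decide (n.1 = -m.1) &&
    (decide (n.2 = (m.2.1, m.2.2.1, m.2.2.2)) || decide (n.2 = (m.2.1, m.2.2.2, m.2.2.1)) ||
     decide (n.2 = (m.2.2.1, m.2.1, m.2.2.2)) || decide (n.2 = (m.2.2.1, m.2.2.2, m.2.1)) ||
     decide (n.2 = (m.2.2.2, m.2.1, m.2.2.1)) || decide (n.2 = (m.2.2.2, m.2.2.1, m.2.1)))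

/-- Remove the first opposite monomial. -/
def takeOut (m : Mon) : List Mon → Option (List Mon)
  | [] => none
  | x :: l => if opp m x then some l else (takeOut m l).map (x :: ·)

/-- The monomials cancel in pairs. -/
def cancels : ℕ → List Mon → Bool
  | _, [] => true
  | 0, _ :: _ => false
  | n + 1, m :: l =>
    match takeOut m l with
    | some l' => cancels n l'
    | none => false

/-- A root vector preserves the form. -/
noncomputable def invOK (r : ℕ) : Bool :=
  (Data.mon.all fun m =>
    ((src r m.2.1).isEmpty && (src r m.2.2.1).isEmpty) || ((src r m.2.1).isEmpty && (src r m.2.2.2).isEmpty) ||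
      ((src r m.2.2.1).isEmpty && (src r m.2.2.2).isEmpty)) &&
  cancels 405 (expand r Data.mon)

/-- The contribution of a monomial to the form on two basis vectors. -/
def term (i j a b x : Fin 27) (c : ℤ) : List (ℤ × Fin 27) :=
  if a = i ∧ b = j then [(c, x)] else []

/-- The linear form of two basis vectors. -/
def coef (i j : Fin 27) : List (ℤ × Fin 27) :=
  Data.mon.flatMap fun m =>
    term i j m.2.1 m.2.2.1 m.2.2.2 m.1 ++ (term i j m.2.1 m.2.2.2 m.2.2.1 m.1 ++
    (term i j m.2.2.1 m.2.1 m.2.2.2 m.1 ++ (term i j m.2.2.1 m.2.2.2 m.2.1 m.1 ++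
    (term i j m.2.2.2 m.2.1 m.2.2.1 m.1 ++ term i j m.2.2.2 m.2.2.1 m.2.1 m.1))))

/-- One other member. -/
def mate (i a b : Fin 27) : List (Fin 27) := if a = i then [b] else []

/-- The coordinates sharing a monomial with `i`. -/
def mates (i : Fin 27) : List (Fin 27) :=
  Data.mon.flatMap fun m =>
    mate i m.2.1 m.2.2.1 ++ (mate i m.2.1 m.2.2.2 ++ (mate i m.2.2.1 m.2.1 ++
    (mate i m.2.2.1 m.2.2.2 ++ (mate i m.2.2.2 m.2.1 ++ mate i m.2.2.2 m.2.2.1))))

/-- One product. -/
def prodAt (d a p q : Fin 27) (c : ℤ) : List (ℤ × Fin 27 × Fin 27) := if a = d then [(c, p, q)] else []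

/-- The quadric at `d`. -/
def sharpAt (d : Fin 27) : List (ℤ × Fin 27 × Fin 27) :=
  Data.mon.flatMap fun m =>
    prodAt d m.2.2.2 m.2.1 m.2.2.1 m.1 ++ (prodAt d m.2.2.1 m.2.1 m.2.2.2 m.1 ++
    prodAt d m.2.1 m.2.2.1 m.2.2.2 m.1)

/-- The root fixes the chosen basis vectors. -/
noncomputable def allowed (P : List (Fin 27)) (r : ℕ) : Bool :=
  Nat.blt r 72 && P.all fun i => decide ((colR r i).2 = 0)

/-- A chain of moves. -/
noncomputable def pathOK (P : List (Fin 27)) (k : Fin 27) : Fin 27 → List (ℕ × Fin 27) → Bool
  | j, [] => decide (j = k)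
  | j, (r, b) :: l => allowed P r && one (src r b) j && pathOK P k b l

/-- A coordinate is zero. -/
def zeroOK (P : List (Fin 27)) (k c : Fin 27) : Data.ZCert → Bool
  | .apart i x => P.contains i && (coef i k).isEmpty && one (coef i x) c
  | .pair i j => P.contains i && P.contains j && one (coef i j) c && decide (c ≠ k)

/-- The pivot is found. -/
noncomputable def pivOK (P : List (Fin 27)) (k : Fin 27) (Z : List (Fin 27)) : Data.Piv → Bool
  | .any ps => (List.finRange 27).all (fun c => Z.contains c || (ps.map Prod.fst).contains c) &&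
      ps.all fun p => pathOK P k p.1 p.2
  | .value i j => P.contains i && P.contains j && one (coef i j) k
  | .near i x ps => P.contains i && one (coef i k) x &&
      (mates i).all (fun c => Z.contains c || (ps.map Prod.fst).contains c) &&
      ps.all fun p => pathOK P k p.1 p.2

/-- The pivot is made equal to one. -/
noncomputable def scaleOK (P : List (Fin 27)) (k : Fin 27) : Data.Piv → Option (ℕ × ℕ × Fin 27) → Bool
  | .value _ _, none => true
  | _, some (r, r', b) => allowed P r && allowed P r' && one (src r b) k && one (src r' k) b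
  | _, none => false

/-- The killing moves do not disturb one another. -/
noncomputable def killsOK (P : List (Fin 27)) (k : Fin 27) (K : List (Fin 27 × ℕ)) : Bool :=
  K.all fun p => allowed P p.2 && one (src p.2 p.1) k && (src p.2 k).isEmpty &&
    K.all fun q => decide (q.1 = p.1) || (src p.2 q.1).isEmpty

/-- A coordinate is forced. -/
def forcedOK (k : Fin 27) (S : List (Fin 27)) (c d : Fin 27) : Bool :=
  match (sharpAt d).filter fun t => !S.contains t.2.1 && !S.contains t.2.2 with
  | [t] => sgnOK t.1 && (decide (t.2 = (k, c)) || decide (t.2 = (c, k)))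
  | _ => false

/-- One step. -/
noncomputable def stepOK (P : List (Fin 27)) (s : Data.Step) : Bool :=
  let Z := s.zeros.map Prod.fst
  let S := s.kills.map Prod.fst ++ Z
  s.zeros.all (fun p => zeroOK P s.k p.1 p.2) && pivOK P s.k Z s.piv && scaleOK P s.k s.piv s.scale &&
    killsOK P s.k s.kills && s.forced.all (fun p => forcedOK s.k S p.1 p.2) &&
    (List.finRange 27).all fun c => decide (c = s.k) || S.contains c || (s.forced.map Prod.fst).contains c

/-- All steps. -/
noncomputable def runOK : List (Fin 27) → List Data.Step → Bool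
  | P, [] => (List.finRange 27).all P.contains
  | P, s :: l => stepOK P s && runOK (s.k :: P) l

theorem distinct_ok : (Data.mon.all fun m =>
    decide (m.2.1 ≠ m.2.2.1) && decide (m.2.1 ≠ m.2.2.2) && decide (m.2.2.1 ≠ m.2.2.2)) = true := by
  decide +kernel

theorem inv_0 : ((List.range 36).all fun r => invOK r) = true := by decide +kernel

theorem inv_1 : ((List.range 36).all fun r => invOK (36 + r)) = true := by decide +kernel

theorem run_ok : runOK [] Data.steps = true := by decide +kernel

theorem rel_0 : Rep.relRange Chevalley.Data.E6.tab Data.tab 0 12 = true := by decide +kernel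

theorem rel_1 : Rep.relRange Chevalley.Data.E6.tab Data.tab 12 12 = true := by decide +kernel

theorem rel_2 : Rep.relRange Chevalley.Data.E6.tab Data.tab 24 12 = true := by decide +kernel

theorem rel_3 : Rep.relRange Chevalley.Data.E6.tab Data.tab 36 12 = true := by decide +kernel

theorem rel_4 : Rep.relRange Chevalley.Data.E6.tab Data.tab 48 12 = true := by decide +kernel

theorem rel_5 : Rep.relRange Chevalley.Data.E6.tab Data.tab 60 12 = true := by decide +kernel

theorem rel_ok : Rep.RelOK Chevalley.Data.E6.tab Data.tab :=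
  Rep.relOK_of_chunks 12 6 rfl fun k hk => by
    match k, hk with
    | 0, _ => exact rel_0
    | 1, _ => exact rel_1
    | 2, _ => exact rel_2
    | 3, _ => exact rel_3
    | 4, _ => exact rel_4
    | 5, _ => exact rel_5
    | k + 6, h => omega

end Cfsg.Agent.E6Cubic
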