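import Cfsg.Agent.Lib.E6Cubic.Roots

/-!
Elimination: an isometry of the cubic form is a product of root elements.
-/

set_option autoImplicit false

open scoped Matrix

namespace Cfsg.Agent.E6Cubic

variable {F : Type*} [Field F]

/-- The basis vector. -/
def bas (i : Fin 27) : Fin 27 → F := Pi.single i 1

variable (F) in
/-- The group of the root elements. -/
noncomputable def Hg : Subgroup (GL (Fin 27) F) :=
  Subgroup.closure {g | ∃ r t, r < 72 ∧ g = xr r t}

variable (F) in
/-- Fixing the listed basis vectors. -/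
def Fx (P : List (Fin 27)) : Subgroup (GL (Fin 27) F) where
  carrier := {g | ∀ i ∈ P, act g (bas i) = bas i}
  one_mem' := fun i _ => act_one _
  mul_mem' {g h} hg hh := fun i hi => by rw [act_mul, hh i hi, hg i hi]
  inv_mem' {g} hg := fun i hi => by
    conv_lhs => rw [← hg i hi]
    rw [← act_mul, inv_mul_cancel, act_one]

variable (F) in
/-- The moves available at a stage. -/
noncomputable def Mv (P : List (Fin 27)) : Subgroup (GL (Fin 27) F) := Hg F ⊓ Fx F P

theorem Hg_le : Hg F ≤ Gf F := by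
  rw [Hg, Subgroup.closure_le]
  rintro g ⟨r, t, hr, rfl⟩
  exact xr_mem hr t

theorem allowed_mem {P : List (Fin 27)} {r : ℕ} (h : allowed P r = true) (t : F) :
    r < 72 ∧ xr r t ∈ Mv F P := by
  simp only [allowed, Bool.and_eq_true, Nat.blt_eq, List.all_eq_true, decide_eq_true_eq] at h
  refine ⟨h.1, Subgroup.subset_closure ⟨r, t, h.1, rfl⟩, fun i hi => ?_⟩
  rw [act_xr h.1]
  suffices e : er (F := F) r *ᵥ bas i = 0 by rw [e, smul_zero, add_zero]
  funext b
  simp [bas, er, h.2 i hi]

theorem sgn_ne {s : ℤ} (h : sgnOK s = true) : (s : F) * s = 1 ∧ (s : F) ≠ 0 := by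
  simp only [sgnOK, decide_eq_true_eq] at h
  rcases h with rfl | rfl <;> simp

theorem one_ok {l : List (ℤ × Fin 27)} {j : Fin 27} (h : one l j = true) :
    ∃ s : ℤ, sgnOK s = true ∧ l = [(s, j)] := by
  match l, h with
  | [p], h =>
    simp only [one, Bool.and_eq_true, decide_eq_true_eq] at h
    exact ⟨p.1, h.1, by rw [← h.2]⟩

/-! ### Trilinear evaluations -/

theorem term_sum (i j a b x : Fin 27) (c : ℤ) (v : Fin 27 → F) :
    ((term i j a b x c).map fun p => (p.1 : F) * v p.2).sum = (c : F) * (bas i a * bas j b * v x) := by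
  rw [term]
  split_ifs with h
  · simp [bas, h.1, h.2]
  · by_cases ha : a = i
    · have hb : b ≠ j := fun hb => h ⟨ha, hb⟩
      simp [bas, hb]
    · simp [bas, ha]

theorem tri_bas (i j : Fin 27) (v : Fin 27 → F) :
    tri Data.mon (bas i) (bas j) v = ((coef i j).map fun p => (p.1 : F) * v p.2).sum := by
  rw [coef, tri]
  induction Data.mon with
  | nil => rfl
  | cons m l ih =>
    simp only [List.flatMap_cons, List.map_cons, List.map_append, List.sum_cons, List.sum_append, term_sum,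
      ← ih]
    ring

theorem tri_bas_one {i j c : Fin 27} (h : one (coef i j) c = true) :
    ∃ s : F, s ≠ 0 ∧ ∀ v, tri Data.mon (bas i) (bas j) v = s * v c := by
  obtain ⟨s, hs, e⟩ := one_ok h
  exact ⟨s, (sgn_ne hs).2, fun v => by simp [tri_bas, e]⟩

theorem tri_bas_nil {i j : Fin 27} (h : (coef i j).isEmpty = true) (v : Fin 27 → F) :
    tri Data.mon (bas i) (bas j) v = 0 := by
  simp [tri_bas, List.isEmpty_iff.1 h]

theorem mem_mate {i a b : Fin 27} (h : a = i) : b ∈ mate i a b := by simp [mate, h]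

theorem tri_mates {i : Fin 27} {v : Fin 27 → F} (h : ∀ q ∈ mates i, v q = 0) (w : Fin 27 → F) :
    tri Data.mon (bas i) v w = 0 := by
  refine List.sum_eq_zero fun x hx => ?_
  obtain ⟨m, hm, rfl⟩ := List.mem_map.1 hx
  have k : ∀ a b : Fin 27, (a = i → b ∈ mates i) → ∀ z, (m.1 : F) * (bas i a * v b * w z) = 0 := by
    intro a b hab z
    by_cases ha : a = i
    · simp [h b (hab ha)]
    · simp [bas, ha]
  have mem : ∀ q, q ∈ mate i m.2.1 m.2.2.1 ++ (mate i m.2.1 m.2.2.2 ++ (mate i m.2.2.1 m.2.1 ++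
      (mate i m.2.2.1 m.2.2.2 ++ (mate i m.2.2.2 m.2.1 ++ mate i m.2.2.2 m.2.2.1)))) → q ∈ mates i :=
    fun q hq => List.mem_flatMap.2 ⟨m, hm, hq⟩
  simp only [List.mem_append] at mem
  rw [k _ _ (fun e => mem _ (Or.inl (mem_mate e))),
    k _ _ (fun e => mem _ (Or.inr (Or.inl (mem_mate e)))),
    k _ _ (fun e => mem _ (Or.inr (Or.inr (Or.inl (mem_mate e))))),
    k _ _ (fun e => mem _ (Or.inr (Or.inr (Or.inr (Or.inl (mem_mate e)))))),
    k _ _ (fun e => mem _ (Or.inr (Or.inr (Or.inr (Or.inr (Or.inl (mem_mate e))))))),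
    k _ _ (fun e => mem _ (Or.inr (Or.inr (Or.inr (Or.inr (Or.inr (mem_mate e)))))))]
  simp

theorem prodAt_sum (d a p q : Fin 27) (c : ℤ) (v : Fin 27 → F) :
    ((prodAt d a p q c).map fun t => (t.1 : F) * (v t.2.1 * v t.2.2)).sum =
      (c : F) * (v p * v q * bas d a) := by
  rw [prodAt]
  split_ifs with h
  · simp [bas, h]
  · simp [bas, h]

theorem quad_bas (d : Fin 27) (v : Fin 27 → F) :
    quad Data.mon v (bas d) = ((sharpAt d).map fun t => (t.1 : F) * (v t.2.1 * v t.2.2)).sum := by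
  rw [sharpAt, quad]
  induction Data.mon with
  | nil => rfl
  | cons m l ih =>
    simp only [List.flatMap_cons, List.map_cons, List.map_append, List.sum_cons, List.sum_append, prodAt_sum,
      ← ih]
    ring

theorem quad_bas_zero (k : Fin 27) (w : Fin 27 → F) : quad Data.mon (bas k) w = 0 := by
  refine List.sum_eq_zero fun x hx => ?_
  obtain ⟨m, hm, rfl⟩ := List.mem_map.1 hx
  have h := List.all_eq_true.1 distinct_ok m hm
  simp only [Bool.and_eq_true, decide_eq_true_eq] at h
  have k' : ∀ a b : Fin 27, a ≠ b → bas (F := F) k a * bas k b = 0 := fun a b hab => by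
    by_cases ha : a = k
    · subst ha; simp [bas, Ne.symm hab]
    · simp [bas, ha]
  linear_combination (m.1 : F) * w m.2.2.2 * k' _ _ h.1.1 + (m.1 : F) * w m.2.2.1 * k' _ _ h.1.2 +
    (m.1 : F) * w m.2.1 * k' _ _ h.2

theorem sum_filter_eq {α : Type*} (f : α → F) (p : α → Bool) (h : ∀ a, p a = false → f a = 0) :
    ∀ l : List α, ((l.filter p).map f).sum = (l.map f).sum
  | [] => rfl
  | a :: l => by
    rcases e : p a with _ | _
    · simp [e, h a e, sum_filter_eq f p h l]
    · simp [e, sum_filter_eq f p h l]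

/-! ### One step -/

variable (hF : ∃ a : F, a ≠ 0 ∧ a ≠ 1) {P : List (Fin 27)} {k : Fin 27}

include hF in
theorem quad_image {g : GL (Fin 27) F} (hg : g ∈ Gf F) (w : Fin 27 → F) :
    quad Data.mon (act g (bas k)) w = 0 := by
  rw [← act_inv g w, quad_inv hF hg, quad_bas_zero]

include hF in
theorem zero_holds {g : GL (Fin 27) F} (hg : g ∈ Gf F) (hP : g ∈ Fx F P) {c : Fin 27} {z : Data.ZCert}
    (h : zeroOK P k c z = true) : act g (bas k) c = 0 := by
  cases z with
  | apart i x =>
    simp only [zeroOK, Bool.and_eq_true, List.contains_iff_mem] at h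
    obtain ⟨s, hs, e⟩ := tri_bas_one (F := F) h.2
    have h0 : tri Data.mon (bas i) (act g (bas k)) (bas x) = 0 := by
      rw [← hP i h.1.1, ← act_inv g (bas x), tri_inv hF hg, tri_bas_nil h.1.2]
    rw [tri_swap, e] at h0
    exact (mul_eq_zero.1 h0).resolve_left hs
  | pair i j =>
    simp only [zeroOK, Bool.and_eq_true, List.contains_iff_mem, decide_eq_true_eq] at h
    obtain ⟨s, hs, e⟩ := tri_bas_one (F := F) h.1.2
    have h0 := tri_inv hF hg (bas i) (bas j) (bas k)
    rw [hP i h.1.1.1, hP j h.1.1.2, e, e] at h0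
    have hk : bas (F := F) k c = 0 := by simp [bas, h.2]
    rw [hk] at h0
    exact mul_left_cancel₀ hs h0

theorem path_move : ∀ (l : List (ℕ × Fin 27)) (j : Fin 27), pathOK P k j l = true →
    ∀ v : Fin 27 → F, v j ≠ 0 → ∃ h ∈ Mv F P, act h v k ≠ 0
  | [], j, hl, v, hv => by
    simp only [pathOK, decide_eq_true_eq] at hl
    exact ⟨1, one_mem _, by simpa [← hl] using hv⟩
  | (r, b) :: l, j, hl, v, hv => by
    simp only [pathOK, Bool.and_eq_true] at hl
    obtain ⟨hr, -⟩ := allowed_mem (F := F) hl.1.1 1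
    obtain ⟨s, hs, e⟩ := one_ok hl.1.2
    by_cases hb : v b = 0
    · obtain ⟨h, hh, hk⟩ := path_move l b hl.2 (act (xr r 1) v) (by
        rw [act_xr_apply hr, e, hb]
        simpa using ⟨(sgn_ne hs).2, hv⟩)
      exact ⟨h * xr r 1, mul_mem hh (allowed_mem hl.1.1 1).2, by rwa [act_mul]⟩
    · exact path_move l b hl.2 v hb

theorem exists_pivot {ps : List (Fin 27 × List (ℕ × Fin 27))}
    (hps : (ps.all fun p => pathOK P k p.1 p.2) = true) {v : Fin 27 → F} {c : Fin 27}
    (hc : c ∈ ps.map Prod.fst) (hv : v c ≠ 0) : ∃ h ∈ Mv F P, act h v k ≠ 0 := by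
  obtain ⟨p, hp, rfl⟩ := List.mem_map.1 hc
  exact path_move p.2 p.1 (List.all_eq_true.1 hps p hp) v hv

include hF in
theorem pivot_found {g : GL (Fin 27) F} (hg : g ∈ Gf F) (hP : g ∈ Fx F P) {Z : List (Fin 27)}
    (hZ : ∀ c ∈ Z, act g (bas k) c = 0) {pv : Data.Piv} (h : pivOK P k Z pv = true) :
    (∃ h ∈ Mv F P, act h (act g (bas k)) k ≠ 0) ∧
      ((∃ i j, pv = .value i j) → act g (bas k) k = 1) := by
  cases pv with
  | any ps =>
    simp only [pivOK, Bool.and_eq_true] at h
    refine ⟨?_, fun ⟨i, j, e⟩ => by simp at e⟩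
    obtain ⟨c, hc⟩ : ∃ c, act g (bas k) c ≠ 0 := by
      by_contra hne
      push Not at hne
      have : act g⁻¹ (act g (bas k)) = act g⁻¹ 0 := congrArg _ (funext hne)
      rw [← act_mul, inv_mul_cancel, act_one] at this
      have := congrFun this k
      simp [bas, act] at this
    have h1 := List.all_eq_true.1 h.1 c (List.mem_finRange c)
    simp only [Bool.or_eq_true, List.contains_iff_mem] at h1
    exact exists_pivot h.2 (h1.resolve_left fun hz => hc (hZ c hz)) hc
  | value i j =>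
    simp only [pivOK, Bool.and_eq_true, List.contains_iff_mem] at h
    obtain ⟨s, hs, e⟩ := tri_bas_one (F := F) h.2
    have h0 := tri_inv hF hg (bas i) (bas j) (bas k)
    rw [hP i h.1.1, hP j h.1.2, e, e] at h0
    have h1 : act g (bas k) k = 1 := by
      have := mul_left_cancel₀ hs h0
      simpa [bas] using this
    exact ⟨⟨1, one_mem _, by simp [h1]⟩, fun _ => h1⟩
  | near i x ps =>
    simp only [pivOK, Bool.and_eq_true, List.contains_iff_mem] at h
    obtain ⟨⟨⟨hi, hx⟩, hm⟩, hps⟩ := h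
    refine ⟨?_, fun ⟨i, j, e⟩ => by simp at e⟩
    obtain ⟨c, hc, hv⟩ : ∃ c ∈ mates i, act g (bas k) c ≠ 0 := by
      by_contra hne
      push Not at hne
      obtain ⟨s, hs, e⟩ := tri_bas_one (F := F) hx
      have h0 := tri_inv hF hg (bas i) (bas k) (bas x)
      rw [hP i hi, tri_mates hne, e] at h0
      exact hs (by simpa [bas] using h0.symm)
    have h1 := List.all_eq_true.1 hm c hc
    simp only [Bool.or_eq_true, List.contains_iff_mem] at h1
    exact exists_pivot hps (h1.resolve_left fun hz => hv (hZ c hz)) hv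

theorem scale_move {pv : Data.Piv} {sc : Option (ℕ × ℕ × Fin 27)} (h : scaleOK P k pv sc = true)
    {v : Fin 27 → F} (hv : v k ≠ 0) (hval : (∃ i j, pv = .value i j) → v k = 1) :
    ∃ g ∈ Mv F P, act g v k = 1 := by
  rcases sc with _ | ⟨r, r', b⟩
  · cases pv with
    | value i j => exact ⟨1, one_mem _, by simpa using hval ⟨i, j, rfl⟩⟩
    | any ps => simp [scaleOK] at h
    | near i x ps => simp [scaleOK] at h
  · have h' : allowed P r = true ∧ allowed P r' = true ∧ one (src r b) k = true ∧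
        one (src r' k) b = true := by
      cases pv <;> simpa [scaleOK, and_assoc] using h
    obtain ⟨hr, hr', hs, hs'⟩ := h'
    obtain ⟨s, hs1, e⟩ := one_ok hs
    obtain ⟨s', hs1', e'⟩ := one_ok hs'
    obtain ⟨hs2, -⟩ := sgn_ne (F := F) hs1
    obtain ⟨hs2', -⟩ := sgn_ne (F := F) hs1'
    obtain ⟨w, hw⟩ : ∃ w, w = act (xr r ((1 - v b) * s / v k)) v := ⟨_, rfl⟩
    have hwb : w b = 1 := by
      rw [hw, act_xr_apply (allowed_mem (F := F) hr 0).1, e]
      simp only [List.map_cons, List.map_nil, List.sum_cons, List.sum_nil, add_zero]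
      field_simp
      linear_combination (1 - v b) * hs2
    refine ⟨xr r' ((1 - w k) * s') * xr r ((1 - v b) * s / v k),
      mul_mem (allowed_mem hr' _).2 (allowed_mem hr _).2, ?_⟩
    rw [act_mul, ← hw, act_xr_apply (allowed_mem (F := F) hr' 0).1, e']
    simp only [List.map_cons, List.map_nil, List.sum_cons, List.sum_nil, add_zero, hwb]
    linear_combination (1 - w k) * hs2'

theorem kill_move {K : List (Fin 27 × ℕ)} (h : killsOK P k K = true) {v : Fin 27 → F} (hv : v k = 1) :
    ∃ g ∈ Mv F P, act g v k = 1 ∧ ∀ p ∈ K, act g v p.1 = 0 := by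
  suffices ∀ L : List (Fin 27 × ℕ), (∀ p ∈ L, p ∈ K) →
      ∃ g ∈ Mv F P, act g v k = 1 ∧ ∀ p ∈ L, act g v p.1 = 0 from this K fun _ => id
  simp only [killsOK, List.all_eq_true, Bool.and_eq_true, Bool.or_eq_true, decide_eq_true_eq] at h
  intro L hL
  induction L with
  | nil => exact ⟨1, one_mem _, by simpa using hv, by simp⟩
  | cons p L ih =>
    obtain ⟨g, hg, hgk, hgz⟩ := ih fun q hq => hL q (List.mem_cons_of_mem _ hq)
    obtain ⟨b, r⟩ := p
    obtain ⟨⟨⟨ha, ho⟩, hk⟩, hq⟩ := h _ (hL _ List.mem_cons_self)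
    obtain ⟨s, hs, e⟩ := one_ok ho
    obtain ⟨hs2, -⟩ := sgn_ne (F := F) hs
    obtain ⟨hr, -⟩ := allowed_mem (F := F) ha 0
    refine ⟨xr r (-(act g v b) * s) * g, mul_mem (allowed_mem ha _).2 hg, ?_, fun q hqL => ?_⟩
    · rw [act_mul, act_xr_apply hr, List.isEmpty_iff.1 hk, hgk]
      simp
    have hb : act (xr r (-(act g v b) * s)) (act g v) b = 0 := by
      rw [act_xr_apply hr, e]
      simp only [List.map_cons, List.map_nil, List.sum_cons, List.sum_nil, add_zero, hgk]
      linear_combination -(act g v b) * hs2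
    rw [act_mul]
    rcases List.mem_cons.1 hqL with rfl | hqL
    · exact hb
    rcases hq q (hL q (List.mem_cons_of_mem _ hqL)) with e' | e'
    · rw [e']; exact hb
    · rw [act_xr_apply hr, List.isEmpty_iff.1 e', hgz q hqL]
      simp

include hF in
theorem forced_zero {g : GL (Fin 27) F} (hg : g ∈ Gf F) (hk : act g (bas k) k = 1) {S : List (Fin 27)}
    (hS : ∀ c ∈ S, act g (bas k) c = 0) {c d : Fin 27} (h : forcedOK k S c d = true) :
    act g (bas k) c = 0 := by
  rw [forcedOK] at h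
  split at h
  · next t e =>
    have h0 := quad_image (k := k) hF hg (bas d)
    rw [quad_bas, ← sum_filter_eq _ (fun t => !S.contains t.2.1 && !S.contains t.2.2) (fun a ha => by
      simp only [Bool.and_eq_false_iff, Bool.not_eq_false', List.contains_iff_mem] at ha
      rcases ha with ha | ha <;> simp [hS _ ha]), e] at h0
    simp only [Bool.and_eq_true, Bool.or_eq_true, decide_eq_true_eq] at h
    have hs := (sgn_ne (F := F) h.1).2
    simp only [List.map_cons, List.map_nil, List.sum_cons, List.sum_nil, add_zero] at h0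
    rcases h.2 with e' | e' <;> simpa [e', hk, hs] using h0
  · exact absurd h Bool.false_ne_true

include hF in
theorem step_sound {s : Data.Step} (h : stepOK P s = true) {g : GL (Fin 27) F} (hg : g ∈ Gf F)
    (hP : g ∈ Fx F P) : ∃ m ∈ Hg F, m * g ∈ Fx F (s.k :: P) := by
  simp only [stepOK, Bool.and_eq_true] at h
  obtain ⟨⟨⟨⟨⟨hz, hpv⟩, hsc⟩, hkl⟩, hfo⟩, hall⟩ := h
  have zeros : ∀ m ∈ Mv F P, ∀ c ∈ s.zeros.map Prod.fst, act (m * g) (bas s.k) c = 0 := by
    intro m hm c hc
    obtain ⟨p, hp, rfl⟩ := List.mem_map.1 hc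
    exact zero_holds hF (mul_mem (Hg_le hm.1) hg) (mul_mem hm.2 hP) (List.all_eq_true.1 hz p hp)
  obtain ⟨⟨m1, hm1, h1⟩, hval⟩ := pivot_found hF hg hP
    (fun c hc => by simpa using zeros 1 (one_mem _) c hc) hpv
  obtain ⟨m2, hm2, h2⟩ : ∃ m ∈ Mv F P, act (m * g) (bas s.k) s.k = 1 := by
    by_cases hv : ∃ i j, s.piv = .value i j
    · exact ⟨1, one_mem _, by simpa using hval hv⟩
    · obtain ⟨m, hm, hm'⟩ := scale_move hsc h1 fun e => absurd e hv
      exact ⟨m * m1, mul_mem hm hm1, by rwa [act_mul, act_mul]⟩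
  obtain ⟨m3, hm3, h3, h3z⟩ := kill_move hkl h2
  refine ⟨m3 * m2, (mul_mem hm3 hm2).1, fun i hi => ?_⟩
  have hmg : act (m3 * m2 * g) (bas s.k) = act m3 (act (m2 * g) (bas s.k)) := by
    rw [mul_assoc, act_mul]
  rcases List.mem_cons.1 hi with rfl | hi
  swap
  · exact (mul_mem (mul_mem hm3 hm2).2 hP) i hi
  have hS : ∀ c ∈ s.kills.map Prod.fst ++ s.zeros.map Prod.fst,
      act (m3 * m2 * g) (bas s.k) c = 0 := by
    intro c hc
    rcases List.mem_append.1 hc with hc | hc
    · obtain ⟨p, hp, rfl⟩ := List.mem_map.1 hc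
      rw [hmg]
      exact h3z p hp
    · exact zeros _ (mul_mem hm3 hm2) c hc
  have hk : act (m3 * m2 * g) (bas s.k) s.k = 1 := by rw [hmg]; exact h3
  funext c
  by_cases hck : c = s.k
  · rw [hck, hk]; simp [bas]
  rw [show bas (F := F) s.k c = 0 by simp [bas, hck]]
  have hc := List.all_eq_true.1 hall c (List.mem_finRange c)
  simp only [Bool.or_eq_true, decide_eq_true_eq, List.contains_iff_mem] at hc
  rcases hc with (hc | hc) | hc
  · exact absurd hc hck
  · exact hS c hc
  · obtain ⟨p, hp, rfl⟩ := List.mem_map.1 hc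
    exact forced_zero hF (mul_mem (Hg_le (mul_mem hm3 hm2).1) hg) hk hS
      (List.all_eq_true.1 hfo p hp)

include hF in
theorem run_sound : ∀ (l : List Data.Step) (P : List (Fin 27)), runOK P l = true →
    ∀ g ∈ Gf F, g ∈ Fx F P → g ∈ Hg F
  | [], P, h, g, _, hP => by
    simp only [runOK, List.all_eq_true, List.contains_iff_mem] at h
    have : g = 1 := Units.ext (Matrix.ext_of_mulVec_single fun i => by
      rw [Units.val_one, Matrix.one_mulVec]
      exact hP i (h i (List.mem_finRange i)))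
    exact this ▸ one_mem _
  | s :: l, P, h, g, hg, hP => by
    simp only [runOK, Bool.and_eq_true] at h
    obtain ⟨m, hm, hmg⟩ := step_sound hF h.1 hg hP
    have := run_sound l _ h.2 (m * g) (mul_mem (Hg_le hm) hg) hmg
    simpa using mul_mem (inv_mem hm) this

include hF in
theorem Gf_eq : Gf F = Hg F :=
  le_antisymm (fun g hg => run_sound hF Data.steps [] run_ok g hg fun i hi => by simp at hi) Hg_le

end Cfsg.Agent.E6Cubic
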