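import Cfsg.Prelude.Def_LieChev
import Cfsg.Agent.Lib.E6Cubic.Sound
import Cfsg.Agent.Lib.Chevalley.Cover.CenterE6
import Cfsg.Agent.Lib.Chevalley.Types.SimpleE6

/-!
The group of the cubic form modulo its centre is the Chevalley group of type E6.
-/

set_option autoImplicit false

open scoped Matrix

namespace Cfsg.Agent.E6Cubic

open Cfsg.Lie Cfsg.Agent.Chevalley.Cover

universe u

variable {F : Type u} [Field F]

/-- The numbering of the coordinates. -/
def enum : I27 ≃ Fin 27 where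
  toFun p := ⟨9 * p.1.val + 3 * p.2.1.val + p.2.2.val, by omega⟩
  invFun j := (⟨j.val / 9, by omega⟩, ⟨j.val / 3 % 3, by omega⟩, ⟨j.val % 3, by omega⟩)
  left_inv := by decide
  right_inv := by decide

theorem cubicT_enum (w : Fin 27 → F) : cubicT (w ∘ enum) = T27 w := by
  simp only [cubicT, T27, cub, Data.mon, List.map_cons, List.map_nil, List.sum_cons, List.sum_nil, tval,
    Matrix.det_fin_three, Matrix.trace, Matrix.diag, Matrix.mul_apply, Fin.sum_univ_three, mat3,
    Matrix.of_apply, Function.comp_apply, enum, Equiv.coe_fn_mk, Fin.isValue, Fin.val_zero, Fin.val_one,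
    Fin.val_two, Nat.reduceMul, Nat.reduceAdd, Fin.reduceFinMk, Fin.mk_zero, Fin.mk_one]
  push_cast
  ring

/-- Renumbering of matrices. -/
noncomputable def glEquiv : GL I27 F ≃* GL (Fin 27) F :=
  Units.mapEquiv (Matrix.reindexAlgEquiv F F enum).toMulEquiv

theorem act_glEquiv (g : GL I27 F) (v : Fin 27 → F) :
    act (glEquiv g) v = ((g : Matrix I27 I27 F) *ᵥ (v ∘ enum)) ∘ enum.symm := by
  show (g : Matrix I27 I27 F).submatrix enum.symm enum.symm *ᵥ v = _
  rw [Matrix.submatrix_mulVec_equiv, Equiv.symm_symm]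

theorem mem_iff (g : GL I27 F) : g ∈ E6univ F ↔ glEquiv g ∈ Gf F := by
  have key : ∀ v, T27 (act (glEquiv g) v) = cubicT ((g : Matrix I27 I27 F) *ᵥ (v ∘ enum)) := fun v => by
    rw [act_glEquiv, ← cubicT_enum, Function.comp_assoc, Equiv.symm_comp_self, Function.comp_id]
  constructor
  · intro h v
    show T27 (act (glEquiv g) v) = _
    rw [key, ← cubicT_enum]
    exact h _
  · intro h v
    have h1 : T27 (act (glEquiv g) (v ∘ enum.symm)) = T27 (v ∘ enum.symm) := h _
    rw [key, ← cubicT_enum, Function.comp_assoc, Equiv.symm_comp_self, Function.comp_id] at h1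
    exact h1

theorem exists_cover (hF : ∃ a : F, a ≠ 0 ∧ a ≠ 1) :
    ∃ f : chevE6.SteinbergCover F →* E6univ F, Function.Surjective f ∧
      ∀ r < 72, ∀ t, glEquiv (f (chevE6.scGen F r t) : GL I27 F) = xr r t := by
  obtain ⟨ρ, hρ⟩ := Rep.exists_rep (F := F) (P := Data.tab) Chevalley.Types.E6.certified SLE6.ok rel_ok
  let ρ' : chevE6.SteinbergCover F →* GL (Fin 27) F := ρ
  have hρ' : ∀ r < 72, ∀ t, ρ' (chevE6.scGen F r t) = xr r t := hρ
  have hr : ρ'.range = Hg F := by
    rw [MonoidHom.range_eq_map, ← Sys.scGen_closure, MonoidHom.map_closure, Hg]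
    refine congrArg Subgroup.closure (Set.ext fun x => ⟨?_, ?_⟩)
    · rintro ⟨y, ⟨r, t, hr, rfl⟩, rfl⟩
      exact ⟨r, t, hr, hρ' r hr t⟩
    · rintro ⟨r, t, hr, rfl⟩
      exact ⟨_, ⟨r, t, hr, rfl⟩, hρ' r hr t⟩
  rw [← Gf_eq hF] at hr
  have hm : ∀ x, glEquiv.symm (ρ' x) ∈ E6univ F := fun x => by
    rw [mem_iff, MulEquiv.apply_symm_apply, ← hr]
    exact ⟨x, rfl⟩
  refine ⟨(glEquiv.symm.toMonoidHom.comp ρ').codRestrict _ hm, ?_, fun r hr t => ?_⟩
  · rintro ⟨g, hg⟩
    rw [mem_iff, ← hr] at hg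
    obtain ⟨x, hx⟩ := hg
    refine ⟨x, Subtype.ext ?_⟩
    show glEquiv.symm (ρ' x) = g
    rw [hx, MulEquiv.symm_apply_apply]
  · show glEquiv (glEquiv.symm (ρ' _)) = _
    rw [MulEquiv.apply_symm_apply, hρ' r hr t]

theorem pair_ok : (decide (src 0 6 = [((colR 0 0).2, 0)]) && decide ((colR 0 0).2 ≠ 0) &&
    one (src 0 6) 0 && one (src 61 0) 15 && (src 61 6).isEmpty) = true := by decide +kernel

theorem xr_noncomm : xr (F := F) 0 1 * xr 61 1 ≠ xr 61 1 * xr 0 1 := by
  intro h
  have h' := pair_ok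
  simp only [Bool.and_eq_true] at h'
  obtain ⟨s, hs, e⟩ := one_ok h'.1.1.2
  obtain ⟨s', hs', e'⟩ := one_ok h'.1.2
  have := congrFun (congrArg (fun g => act g (bas (F := F) 15)) h) 6
  simp only [act_mul, act_xr_apply (show (0:ℕ) < 72 by norm_num), act_xr_apply (show (61:ℕ) < 72 by norm_num),
    e, e', List.isEmpty_iff.1 h'.2, List.map_cons, List.map_nil, List.sum_cons, List.sum_nil] at this
  simp [bas, (sgn_ne (F := F) hs).2, (sgn_ne (F := F) hs').2] at this

theorem not_comm (hF : ∃ a : F, a ≠ 0 ∧ a ≠ 1) : Subgroup.center (E6univ F) ≠ ⊤ := by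
  intro h
  obtain ⟨f, -, hf⟩ := exists_cover hF
  have hc : f (chevE6.scGen F 61 1) ∈ Subgroup.center (E6univ F) := h ▸ Subgroup.mem_top _
  have := congrArg (fun x : E6univ F => glEquiv (x : GL I27 F))
    (Subgroup.mem_center_iff.1 hc (f (chevE6.scGen F 0 1)))
  simp only [Subgroup.coe_mul, map_mul, hf 0 (by norm_num), hf 61 (by norm_num)] at this
  exact xr_noncomm this

theorem main [Fintype F] (hF : 3 ≤ Fintype.card F) : Nonempty (E6 F ≃* ↥(chevE6.group F)) := by
  classical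
  have ha : ∃ a : F, a ≠ 0 ∧ a ≠ 1 := by
    by_contra h
    push Not at h
    have : (Finset.univ : Finset F) ⊆ {0, 1} := fun a _ => by
      by_cases h0 : a = 0
      · simp [h0]
      · simp [h a h0]
    have := (Finset.card_le_card this).trans Finset.card_le_two
    rw [Finset.card_univ] at this
    omega
  have hC := Chevalley.Types.E6.certified
  have hT : Chevalley.StKernel.HasCerts Chevalley.Data.E6.tab :=
    ⟨⟨_, Chevalley.Types.CoefE6.coef_ok⟩, ⟨_, Chevalley.Types.StCerts.conj_E6⟩⟩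
  have hrange := Chevalley.StKernel.th_range (Sys.scSys (F := F) hC)
  let θ : chevE6.SteinbergCover F →* ↥(chevE6.group F) :=
    (Sys.th hC).codRestrict _ fun x => hrange ▸ ⟨x, rfl⟩
  have hθ : Function.Surjective θ := by
    rintro ⟨y, hy⟩
    rw [← hrange] at hy
    obtain ⟨x, hx⟩ := hy
    exact ⟨x, Subtype.ext hx⟩
  have hker : θ.ker = Subgroup.center (chevE6.SteinbergCover F) := by
    rw [MonoidHom.ker_codRestrict]
    exact Chevalley.StSteinberg.center_eq_ker (Sys.scSys (F := F) hC) hT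
  obtain ⟨f, hf, -⟩ := exists_cover ha
  let ψ : chevE6.SteinbergCover F →* E6 F := (QuotientGroup.mk' (Subgroup.center (E6univ F))).comp f
  have hψ : Function.Surjective ψ := (QuotientGroup.mk'_surjective _).comp hf
  have h1 : θ.ker ≤ ψ.ker := by
    intro z hz
    rw [hker] at hz
    show QuotientGroup.mk' _ (f z) = 1
    rw [QuotientGroup.mk'_apply, QuotientGroup.eq_one_iff, Subgroup.mem_center_iff]
    intro y
    obtain ⟨x, rfl⟩ := hf y
    rw [← map_mul, ← map_mul, Subgroup.mem_center_iff.1 hz x]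
  haveI := (Chevalley.Types.SimpleE6.simple_group F).1
  have h2 : ψ.ker ≤ θ.ker := by
    rcases ((inferInstance : ψ.ker.Normal).map θ hθ).eq_bot_or_eq_top with h | h
    · exact fun z hz => Subgroup.mem_bot.1 (h ▸ Subgroup.mem_map_of_mem θ hz)
    exfalso
    refine not_comm ha (eq_top_iff.2 fun y _ => ?_)
    obtain ⟨x, rfl⟩ := hf y
    obtain ⟨k, hk, hkx⟩ : θ x ∈ ψ.ker.map θ := h ▸ Subgroup.mem_top _
    have hx : x ∈ ψ.ker := by
      have : k⁻¹ * x ∈ θ.ker := by rw [MonoidHom.mem_ker, map_mul, map_inv, hkx, inv_mul_cancel]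
      have h' := mul_mem (show k ∈ ψ.ker from hk) (h1 this)
      rwa [mul_inv_cancel_left] at h'
    exact (QuotientGroup.eq_one_iff _).1 hx
  exact ⟨(QuotientGroup.quotientKerEquivOfSurjective ψ hψ).symm.trans
    ((QuotientGroup.quotientMulEquivOfEq (le_antisymm h2 h1)).trans
      (QuotientGroup.quotientKerEquivOfSurjective θ hθ))⟩

end Cfsg.Agent.E6Cubic
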