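import Cfsg.Agent.Lib.Chevalley.Types.E6
import Cfsg.Agent.Lib.Chevalley.Cover.SLE6
import Cfsg.Agent.Lib.E6Cubic.Check

/-!
The root elements in the 27 coordinates and their membership in the isometry group.
-/

set_option autoImplicit false

open scoped Matrix

namespace Cfsg.Agent.E6Cubic

open Cfsg.Lie Cfsg.Agent.Chevalley.Cover

variable {F : Type*} [Field F]

/-- The root element. -/
noncomputable def xr (r : ℕ) (t : F) : GL (Fin 27) F :=
  Rep.xm (F := F) (P := Data.tab) Chevalley.Types.E6.certified rel_ok r t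

/-- The root vector. -/
noncomputable def er (r : ℕ) : Matrix (Fin 27) (Fin 27) F :=
  fun i j => if (colR r j).1 = i.val then ((colR r j).2 : F) else 0

theorem coe_xr {r : ℕ} (hr : r < 72) (t : F) :
    (xr r t : Matrix (Fin 27) (Fin 27) F) = 1 + t • er r :=
  Rep.coe_xm (F := F) (P := Data.tab) Chevalley.Types.E6.certified rel_ok hr t

theorem xr_mul {r : ℕ} (hr : r < 72) (t u : F) : xr r t * xr r u = xr r (t + u) :=
  ((Rep.rels (F := F) (P := Data.tab) Chevalley.Types.E6.certified SLE6.ok rel_ok).add r hr t u).symm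

theorem sum_filterMap {α β M : Type*} [AddCommMonoid M] (f : α → Option β) (g : β → M) (h : α → M)
    (hn : ∀ a, f a = none → h a = 0) (hs : ∀ a b, f a = some b → g b = h a) :
    ∀ l : List α, ((l.filterMap f).map g).sum = (l.map h).sum
  | [] => rfl
  | a :: l => by
    rcases e : f a with _ | b
    · simp [e, hn a e, sum_filterMap f g h hn hs l]
    · simp [e, hs a b e, sum_filterMap f g h hn hs l]

theorem er_mulVec (r : ℕ) (v : Fin 27 → F) (b : Fin 27) :
    (er r *ᵥ v) b = ((src r b).map fun p => (p.1 : F) * v p.2).sum := by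
  rw [src, sum_filterMap _ _ (fun j => er (F := F) r b j * v j)]
  · rw [Matrix.mulVec, dotProduct, Fin.sum_univ_def]
  · intro j hj
    split_ifs at hj with h
    by_cases e : (colR r j).1 = b.val
    · have : (colR r j).2 = 0 := by
        by_contra h'
        exact h ⟨e, h'⟩
      simp [er, e, this]
    · simp [er, e]
  · intro j p hp
    split_ifs at hp with h
    obtain rfl := Option.some.inj hp
    simp [er, h.1]

theorem act_xr {r : ℕ} (hr : r < 72) (t : F) (v : Fin 27 → F) :
    act (xr r t) v = v + t • (er r *ᵥ v) := by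
  rw [act, coe_xr hr, Matrix.add_mulVec, Matrix.one_mulVec, Matrix.smul_mulVec]

theorem act_xr_apply {r : ℕ} (hr : r < 72) (t : F) (v : Fin 27 → F) (b : Fin 27) :
    act (xr r t) v b = v b + t * ((src r b).map fun p => (p.1 : F) * v p.2).sum := by
  rw [act_xr hr, Pi.add_apply, Pi.smul_apply, smul_eq_mul, er_mulVec]

theorem er_zero {r : ℕ} {b : Fin 27} (h : (src r b).isEmpty) (v : Fin 27 → F) :
    (er r *ᵥ v) b = 0 := by
  rw [er_mulVec, List.isEmpty_iff.1 h]
  rfl

/-! ### Cancellation -/

theorem cub_takeOut (m : Mon) (v : Fin 27 → F) : ∀ (l : List Mon) {l' : List Mon},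
    takeOut m l = some l' → cub l v + tval m v = cub l' v
  | [], _, h => by simp [takeOut] at h
  | x :: l, l', h => by
    rw [takeOut] at h
    split_ifs at h with hx
    · obtain rfl := Option.some.inj h
      obtain ⟨c, a, b, d⟩ := m
      obtain ⟨c', a', b', d'⟩ := x
      simp only [opp, Bool.and_eq_true, Bool.or_eq_true, decide_eq_true_eq, Prod.mk.injEq] at hx
      obtain ⟨rfl, hx⟩ := hx
      simp only [cub, List.map_cons, List.sum_cons, tval]
      rcases hx with ((((⟨rfl, rfl, rfl⟩ | ⟨rfl, rfl, rfl⟩) | ⟨rfl, rfl, rfl⟩) | ⟨rfl, rfl, rfl⟩) |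
        ⟨rfl, rfl, rfl⟩) | ⟨rfl, rfl, rfl⟩ <;> push_cast <;> ring
    · obtain ⟨l'', e, rfl⟩ := Option.map_eq_some_iff.1 h
      have := cub_takeOut m v l e
      simp only [cub, List.map_cons, List.sum_cons] at this ⊢
      rw [← this, add_assoc]

theorem cub_cancels (v : Fin 27 → F) : ∀ (n : ℕ) (l : List Mon), cancels n l = true → cub l v = 0
  | _, [], _ => by simp [cub]
  | 0, _ :: _, h => by simp [cancels] at h
  | n + 1, m :: l, h => by
    rw [cancels] at h
    split at h
    · next l' e =>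
      have h1 := cub_takeOut m v l e
      rw [cub_cancels v n l' h] at h1
      simp only [cub, List.map_cons, List.sum_cons] at h1 ⊢
      linear_combination h1
    · exact absurd h Bool.false_ne_true

theorem cub_append (l l' : List Mon) (v : Fin 27 → F) : cub (l ++ l') v = cub l v + cub l' v := by
  simp [cub]

theorem quad_er (r : ℕ) (v : Fin 27 → F) :
    ∀ l : List Mon, quad l v (er r *ᵥ v) = cub (expand r l) v
  | [] => rfl
  | m :: l => by
    rw [expand, List.flatMap_cons, cub_append, cub_append, cub_append, ← expand, ← quad_er r v l]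
    simp only [quad, cub, List.map_cons, List.sum_cons, List.map_map, Function.comp_def, tval]
    rw [er_mulVec, er_mulVec, er_mulVec]
    simp only [← List.sum_map_mul_left, ← List.sum_map_mul_right, mul_add]
    push_cast
    congr 1
    rw [add_assoc]
    congr 1
    · exact congrArg List.sum (List.map_congr_left fun p _ => by ring)
    congr 1
    · exact congrArg List.sum (List.map_congr_left fun p _ => by ring)
    · exact congrArg List.sum (List.map_congr_left fun p _ => by ring)

theorem invOK_ok {r : ℕ} (hr : r < 72) : invOK r = true := by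
  by_cases h : r < 36
  · exact List.all_eq_true.1 inv_0 r (List.mem_range.2 h)
  · have := List.all_eq_true.1 inv_1 (r - 36) (List.mem_range.2 (by omega))
    rwa [show 36 + (r - 36) = r by omega] at this

theorem xr_mem {r : ℕ} (hr : r < 72) (t : F) : xr r t ∈ Gf F := by
  intro v
  have h := invOK_ok hr
  simp only [invOK, Bool.and_eq_true, List.all_eq_true, Bool.or_eq_true] at h
  have hz : ∀ (u : Fin 27 → F), ∀ m ∈ Data.mon,
      ((er r *ᵥ u) m.2.1 = 0 ∧ (er r *ᵥ u) m.2.2.1 = 0) ∨ ((er r *ᵥ u) m.2.1 = 0 ∧ (er r *ᵥ u) m.2.2.2 = 0) ∨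
        ((er r *ᵥ u) m.2.2.1 = 0 ∧ (er r *ᵥ u) m.2.2.2 = 0) := fun u m hm => by
    rcases h.1 m hm with (⟨h1, h2⟩ | ⟨h1, h2⟩) | ⟨h1, h2⟩
    · exact Or.inl ⟨er_zero h1 u, er_zero h2 u⟩
    · exact Or.inr (Or.inl ⟨er_zero h1 u, er_zero h2 u⟩)
    · exact Or.inr (Or.inr ⟨er_zero h1 u, er_zero h2 u⟩)
  have hT : cub Data.mon (er r *ᵥ v) = 0 := by
    refine List.sum_eq_zero fun x hx => ?_
    obtain ⟨m, hm, rfl⟩ := List.mem_map.1 hx
    rcases hz v m hm with ⟨h1, h2⟩ | ⟨h1, h2⟩ | ⟨h1, h2⟩ <;> simp [tval, h1, h2]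
  have hL : quad Data.mon (er r *ᵥ v) v = 0 := by
    refine List.sum_eq_zero fun x hx => ?_
    obtain ⟨m, hm, rfl⟩ := List.mem_map.1 hx
    rcases hz v m hm with ⟨h1, h2⟩ | ⟨h1, h2⟩ | ⟨h1, h2⟩ <;> simp [h1, h2]
  show T27 (act (xr r t) v) = T27 v
  rw [act_xr hr, T27, cub_add, quad_er, cub_cancels v _ _ h.2, hL, hT]
  simp [T27]

end Cfsg.Agent.E6Cubic
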